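import Groth.Agent.RatExt.Basic
import Groth.Agent.S0549

/-!
Extension of partial sections and morphisms to all points with regular local rings of dimension at most one.
-/

set_option autoImplicit false
set_option linter.style.haveILetI false
universe u

open CategoryTheory Limits AlgebraicGeometry TopologicalSpace

namespace Groth.Agent.RatExt

theorem domain_valuationRing_of_regular {A : Type u} [CommRing A] [IsLocalRing A] [IsNoetherianRing A]
    (hreg : IsRegularLocalRing A) (h : ringKrullDim A ≤ 1) : ∃ _ : IsDomain A, ValuationRing A := by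
  haveI := hreg
  haveI : IsDomain A := Groth.Agent.RegLoc.isDomain A
  refine ⟨inferInstance, ?_⟩
  by_cases h0 : ringKrullDim A ≤ 0
  · haveI : Ring.KrullDimLE 0 A := Ring.krullDimLE_iff.2 (by simpa using h0)
    letI := (Ring.KrullDimLE.isField_of_isDomain (R := A)).toField
    exact inferInstance
  · haveI : IsDiscreteValuationRing A :=
      Groth.Agent.S0549.dvr_iff.2 ⟨hreg, le_antisymm h (Order.succ_le_of_lt (not_le.1 h0))⟩
    exact inferInstance

/-- Sections of separated closed morphisms of finite type over a dense open extend to the points with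
regular local rings of dimension at most one. -/
theorem exists_section_points {X Y : Scheme.{u}} [IsLocallyNoetherian X] [IsReduced X] (q : Y ⟶ X)
    [LocallyOfFiniteType q] [IsSeparated q] (hq : IsClosedMap q) (U : X.Opens) (hU : Dense (U : Set X))
    (h : U.toScheme ⟶ Y) (hh : h ≫ q = U.ι) (P : Set X)
    (hP : ∀ x ∈ P, ∃ _ : IsDomain (X.presheaf.stalk x), ValuationRing (X.presheaf.stalk x)) :
    ∃ (U' : X.Opens) (hUU' : U ≤ U') (h' : U'.toScheme ⟶ Y),
      h' ≫ q = U'.ι ∧ X.homOfLE hUU' ≫ h' = h ∧ ∀ x ∈ P, x ∈ U' := by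
  have key : ∀ x : P, ∃ (W : X.Opens) (hUW : U ≤ W) (g : W.toScheme ⟶ Y),
      x.1 ∈ W ∧ g ≫ q = W.ι ∧ X.homOfLE hUW ≫ g = h := fun x => by
    obtain ⟨hdom, hval⟩ := hP x.1 x.2
    exact exists_section_nhd q hq U hU h hh x.1 hval
  choose W hUW g hxW hg hres using key
  obtain ⟨U', hUU', h', h1, h2, h3⟩ := exists_glue_family q (𝟙 X) U hU h (by rw [hh, Category.comp_id]) W hUW g
    (fun i => by rw [hg, Category.comp_id]) hres
  exact ⟨U', hUU', h', by rw [h1, Category.comp_id], h2, fun x hx => h3 ⟨x, hx⟩ (hxW ⟨x, hx⟩)⟩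

/-- Morphisms over a dense open to a proper target extend to the points with valuation local rings. -/
theorem exists_hom_points {X Y S : Scheme.{u}} [IsLocallyNoetherian X] [IsReduced X] (p : Y ⟶ S) [IsProper p]
    (sX : X ⟶ S) (U : X.Opens) (hU : Dense (U : Set X))
    (h : U.toScheme ⟶ Y) (hh : h ≫ p = U.ι ≫ sX) (P : Set X)
    (hP : ∀ x ∈ P, ∃ _ : IsDomain (X.presheaf.stalk x), ValuationRing (X.presheaf.stalk x)) :
    ∃ (U' : X.Opens) (hUU' : U ≤ U') (h' : U'.toScheme ⟶ Y),
      h' ≫ p = U'.ι ≫ sX ∧ X.homOfLE hUU' ≫ h' = h ∧ ∀ x ∈ P, x ∈ U' := by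
  have key : ∀ x : P, ∃ (W : X.Opens) (hUW : U ≤ W) (g : W.toScheme ⟶ Y),
      x.1 ∈ W ∧ g ≫ p = W.ι ≫ sX ∧ X.homOfLE hUW ≫ g = h := fun x => by
    obtain ⟨hdom, hval⟩ := hP x.1 x.2
    exact exists_hom_nhd p sX U hU h hh x.1 hval
  choose W hUW g hxW hg hres using key
  obtain ⟨U', hUU', h', h1, h2, h3⟩ := exists_glue_family p sX U hU h hh W hUW g hg hres
  exact ⟨U', hUU', h', h1, h2, fun x hx => h3 ⟨x, hx⟩ (hxW ⟨x, hx⟩)⟩

end Groth.Agent.RatExt
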