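import Groth.Agent.SectionExt.Basic
import Groth.Agent.S4439
import Mathlib.AlgebraicGeometry.SpreadingOut
import Mathlib.AlgebraicGeometry.Morphisms.Preimmersion
import Mathlib.RingTheory.Valuation.ValuationRing
import Mathlib.RingTheory.DiscreteValuationRing.TFAE

/-!
Extension of sections of separated closed morphisms to points with valuation local rings.
-/

set_option autoImplicit false
set_option linter.style.haveILetI false
set_option backward.isDefEq.respectTransparency false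
universe u

open CategoryTheory Limits AlgebraicGeometry TopologicalSpace IsLocalRing
open Groth.Agent.SectionExt

namespace Groth.Agent.RatExt

variable {X Y : Scheme.{u}}

/-- Closed maps stay closed after base change along preimmersions. -/
theorem isClosedMap_pullback_snd {T : Scheme.{u}} (q : Y ⟶ X) (hq : IsClosedMap q) (j : T ⟶ X)
    [IsPreimmersion j] : IsClosedMap (pullback.snd q j) := by
  intro C hC
  obtain ⟨D, hD, rfl⟩ := (pullback.fst q j).isEmbedding.isInducing.isClosed_iff.1 hC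
  have : pullback.snd q j '' (pullback.fst q j ⁻¹' D) = j ⁻¹' (q '' D) := by
    ext t
    constructor
    · rintro ⟨p, hp, rfl⟩
      exact ⟨pullback.fst q j p, hp, congr($(pullback.condition (f := q) (g := j)) p)⟩
    · rintro ⟨d, hd, hdt⟩
      obtain ⟨p, hp1, hp2⟩ := Scheme.Pullback.exists_preimage_pullback d t hdt
      exact ⟨p, show pullback.fst q j p ∈ D from hp1.symm ▸ hd, hp2⟩
  rw [this]
  exact (hq D hD).preimage j.continuous

/-- A morphism from the spectrum of a local ring is given by a local map of the stalk at the image of the closed point. -/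
theorem exists_stalk_map {R : CommRingCat.{u}} [IsLocalRing R] (ℓ : Spec R ⟶ Y) (z : Y)
    (hz : ℓ (closedPoint R) = z) :
    ∃ σ : Y.presheaf.stalk z ⟶ R, IsLocalHom σ.hom ∧ Spec.map σ ≫ Y.fromSpecStalk z = ℓ := by
  subst hz
  exact ⟨Scheme.stalkClosedPointTo ℓ, inferInstance, Scheme.Spec_stalkClosedPointTo_fromSpecStalk ℓ⟩

/-- A section over a dense open of a separated closed morphism locally of finite type extends to a point
whose local ring is a valuation ring. -/
theorem exists_section_nhd (q : Y ⟶ X) [LocallyOfFiniteType q] [IsSeparated q] (hq : IsClosedMap q)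
    (U : X.Opens) (hU : Dense (U : Set X)) (h : U.toScheme ⟶ Y) (hh : h ≫ q = U.ι) (x : X)
    [X.IsGermInjectiveAt x] [IsDomain (X.presheaf.stalk x)] (hval : ValuationRing (X.presheaf.stalk x)) :
    ∃ (U' : X.Opens) (hUU' : U ≤ U') (h' : U'.toScheme ⟶ Y),
      x ∈ U' ∧ h' ≫ q = U'.ι ∧ X.homOfLE hUU' ≫ h' = h := by
  let A := X.presheaf.stalk x
  let K := FractionRing A
  let gen : Spec (CommRingCat.of K) ⟶ Spec A := Spec.map (CommRingCat.ofHom (algebraMap A K))
  let eU := IsOpenImmersion.lift U.ι (genMap X x) (by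
    rw [Scheme.Opens.range_ι]; exact range_genMap_subset x U hU)
  have heU : eU ≫ U.ι = genMap X x := IsOpenImmersion.lift_fac _ _ _
  let xK : Spec (CommRingCat.of K) ⟶ pullback q (X.fromSpecStalk x) :=
    pullback.lift (eU ≫ h) gen (by rw [Category.assoc, hh]; exact heU)
  obtain ⟨s, ⟨hs1, hs2⟩, -⟩ := @Groth.Agent.S4439.result A _ _ hval K _ _ _ _
    (pullback.snd q (X.fromSpecStalk x)) _ (isClosedMap_pullback_snd q hq _) xK (pullback.lift_snd _ _ _)
  obtain ⟨ℓ, hℓq, hℓK⟩ : ∃ ℓ : Spec A ⟶ Y, ℓ ≫ q = X.fromSpecStalk x ∧ gen ≫ ℓ = eU ≫ h := by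
    refine ⟨s ≫ pullback.fst _ _, ?_, ?_⟩
    · refine (Category.assoc _ _ _).trans ?_
      rw [pullback.condition]
      exact (Category.assoc _ _ _).symm.trans ((congrArg (· ≫ _) hs1).trans (Category.id_comp _))
    · exact (Category.assoc _ _ _).symm.trans ((congrArg (· ≫ _) hs2).trans (pullback.lift_fst _ _ _))
  clear_value eU
  clear hs1 hs2 s xK
  obtain ⟨y₀, hy₀⟩ : ∃ y₀ : Y, ℓ (closedPoint A) = y₀ := ⟨_, rfl⟩
  have hx : q y₀ = x := by
    rw [← hy₀, ← Scheme.Hom.comp_apply, hℓq]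
    exact Scheme.fromSpecStalk_closedPoint
  subst hx
  obtain ⟨σ, hσloc, hσℓ⟩ := exists_stalk_map ℓ y₀ hy₀
  have hσ : q.stalkMap y₀ ≫ σ = 𝟙 _ := by
    apply Spec.map_injective
    refine (cancel_mono (X.fromSpecStalk (q y₀))).mp ?_
    rw [Spec.map_comp, Spec.map_id, Category.id_comp, Category.assoc, Scheme.SpecMap_stalkMap_fromSpecStalk,
      reassoc_of% hσℓ]
    exact hℓq
  haveI := hσloc
  haveI : IsSeparated ((⊤ : Y.Opens).ι ≫ q) := inferInstance
  obtain ⟨U', hUU', hxU', h', h1, h2, -⟩ := exists_extension q U hU h hh y₀ σ.hom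
    (congrArg CommRingCat.Hom.hom hσ) eU heU
    (by
      refine Eq.trans ?_ hℓK
      rw [← hσℓ, CommRingCat.ofHom_comp, Spec.map_comp, Category.assoc]
      rfl)
    ⊤ trivial ⊤ trivial (fun _ _ => trivial)
  exact ⟨U', hUU', h', hxU', h1, h2⟩

/-- Sections agreeing on a dense open of a reduced scheme agree. -/
theorem hom_ext_dense [IsReduced X] {S : Scheme.{u}} (sY : Y ⟶ S) [IsSeparated sY] {U W : X.Opens}
    (hUW : U ≤ W) (hU : Dense (U : Set X)) (a b : W.toScheme ⟶ Y) (h1 : a ≫ sY = b ≫ sY)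
    (h2 : X.homOfLE hUW ≫ a = X.homOfLE hUW ≫ b) : a = b := by
  haveI : IsDominant (X.homOfLE hUW) := ⟨by
    refine dense_iff_inter_open.mpr fun O hO ⟨o, ho⟩ => ?_
    obtain ⟨p, hpO, hpU⟩ := hU.inter_open_nonempty (W.ι ''ᵁ ⟨O, hO⟩ : X.Opens).1 (W.ι ''ᵁ ⟨O, hO⟩).2 ⟨W.ι o, o, ho, rfl⟩
    obtain ⟨o', ho', rfl⟩ := hpO
    exact ⟨o', ho', ⟨o'.1, hpU⟩, W.ι.isOpenEmbedding.injective (by
      rw [← Scheme.Hom.comp_apply, Scheme.homOfLE_ι]; rfl)⟩⟩
  exact ext_of_isDominant_of_isSeparated sY h1 (X.homOfLE hUW) h2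

/-- Gluing a family of extensions of a morphism over a dense open. -/
theorem exists_glue_family [IsReduced X] {S : Scheme.{u}} (sY : Y ⟶ S) [IsSeparated sY] (sX : X ⟶ S)
    (U : X.Opens) (hU : Dense (U : Set X)) (h : U.toScheme ⟶ Y) (hh : h ≫ sY = U.ι ≫ sX)
    {ι : Type u} (W : ι → X.Opens) (hUW : ∀ i, U ≤ W i) (g : ∀ i, (W i).toScheme ⟶ Y)
    (hg : ∀ i, g i ≫ sY = (W i).ι ≫ sX) (hres : ∀ i, X.homOfLE (hUW i) ≫ g i = h) :
    ∃ (U' : X.Opens) (hUU' : U ≤ U') (h' : U'.toScheme ⟶ Y),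
      h' ≫ sY = U'.ι ≫ sX ∧ X.homOfLE hUU' ≫ h' = h ∧ ∀ i, W i ≤ U' := by
  let W' : Option ι → X.Opens := fun o => o.elim U W
  let f : ∀ o, (W' o).toScheme ⟶ Y := fun o => match o with
    | none => h
    | some i => g i
  have hf : ∀ o, f o ≫ sY = (W' o).ι ≫ sX := fun o => match o with
    | none => hh
    | some i => hg i
  have hU' : ∀ o, U ≤ W' o := fun o => match o with
    | none => le_rfl
    | some i => hUW i
  have hres' : ∀ o, X.homOfLE (hU' o) ≫ f o = h := fun o => match o with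
    | none => by
      show X.homOfLE (le_refl U) ≫ h = h
      rw [show X.homOfLE (le_refl U) = 𝟙 _ from X.homOfLE_rfl U, Category.id_comp]
    | some i => hres i
  let T : X.Opens := ⨆ o, W' o
  have hle : ∀ o, W' o ≤ T := le_iSup W'
  let 𝒰 : T.toScheme.OpenCover := Scheme.Cover.mkOfCovers (Option ι) (fun o => (W' o).toScheme)
    (fun o => X.homOfLE (hle o)) (fun p => by
      obtain ⟨o, ho⟩ := Opens.mem_iSup.1 p.2
      exact ⟨o, ⟨p.1, ho⟩, Subtype.ext (by simp)⟩) (fun _ => inferInstance)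
  have hcompat : ∀ i j, pullback.fst (X.homOfLE (hle i)) (X.homOfLE (hle j)) ≫ f i =
      pullback.snd (X.homOfLE (hle i)) (X.homOfLE (hle j)) ≫ f j := by
    intro i j
    have hc := congrArg (· ≫ T.ι) (pullback.condition (f := X.homOfLE (hle i)) (g := X.homOfLE (hle j)))
    simp only [Category.assoc, Scheme.homOfLE_ι] at hc
    let l := IsOpenImmersion.lift (W' i ⊓ W' j).ι (pullback.fst (X.homOfLE (hle i)) (X.homOfLE (hle j)) ≫ (W' i).ι) (by
      rintro _ ⟨p, rfl⟩
      rw [Scheme.Opens.range_ι]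
      refine ⟨?_, ?_⟩
      · rw [Scheme.Hom.comp_apply]; exact Subtype.prop _
      · rw [hc, Scheme.Hom.comp_apply]; exact Subtype.prop _)
    have h1 : l ≫ X.homOfLE inf_le_left = pullback.fst _ _ := by
      rw [← cancel_mono (W' i).ι, Category.assoc, Scheme.homOfLE_ι]; exact IsOpenImmersion.lift_fac _ _ _
    have h2 : l ≫ X.homOfLE inf_le_right = pullback.snd _ _ := by
      rw [← cancel_mono (W' j).ι, Category.assoc, Scheme.homOfLE_ι, ← hc]; exact IsOpenImmersion.lift_fac _ _ _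
    rw [← h1, ← h2, Category.assoc, Category.assoc]
    congr 1
    refine hom_ext_dense sY (le_inf (hU' i) (hU' j)) hU _ _ ?_ ?_
    · simp only [Category.assoc, hf, Scheme.homOfLE_ι_assoc]
    · simp only [Scheme.homOfLE_homOfLE_assoc, hres']
  refine ⟨T, hle none, 𝒰.glueMorphisms f hcompat, 𝒰.hom_ext _ _ fun o => ?_,
    𝒰.ι_glueMorphisms f hcompat none, fun i => hle (some i)⟩
  rw [Scheme.Cover.ι_glueMorphisms_assoc]
  show f o ≫ sY = X.homOfLE (hle o) ≫ T.ι ≫ sX
  rw [Scheme.homOfLE_ι_assoc, hf]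

/-- A morphism over a dense open to a scheme proper over the base extends to points with valuation local rings. -/
theorem exists_hom_nhd {S : Scheme.{u}} (p : Y ⟶ S) [IsProper p] (sX : X ⟶ S) (U : X.Opens)
    (hU : Dense (U : Set X)) (h : U.toScheme ⟶ Y) (hh : h ≫ p = U.ι ≫ sX) (x : X)
    [X.IsGermInjectiveAt x] [IsDomain (X.presheaf.stalk x)] (hval : ValuationRing (X.presheaf.stalk x)) :
    ∃ (U' : X.Opens) (hUU' : U ≤ U') (h' : U'.toScheme ⟶ Y),
      x ∈ U' ∧ h' ≫ p = U'.ι ≫ sX ∧ X.homOfLE hUU' ≫ h' = h := by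
  obtain ⟨U', hUU', h', hx, h1, h2⟩ := exists_section_nhd (pullback.snd p sX)
    (pullback.snd p sX).isClosedMap U hU (pullback.lift h U.ι hh) (pullback.lift_snd _ _ _) x hval
  refine ⟨U', hUU', h' ≫ pullback.fst p sX, hx, ?_, ?_⟩
  · rw [Category.assoc, pullback.condition, reassoc_of% h1]
  · rw [reassoc_of% h2, pullback.lift_fst]

theorem valuationRing_of_dim_le_one {A : Type u} [CommRing A] [IsLocalRing A] [IsNoetherianRing A] [IsDomain A]
    [IsIntegrallyClosed A] (h : ringKrullDim A ≤ 1) : ValuationRing A := by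
  haveI : Ring.KrullDimLE 1 A := Ring.krullDimLE_iff.2 h
  by_cases hf : IsField A
  · letI := hf.toField
    exact inferInstance
  · have hE : ∃! P : Ideal A, P ≠ ⊥ ∧ P.IsPrime :=
      ⟨maximalIdeal A, ⟨fun hb => hf (isField_iff_maximalIdeal_eq.2 hb), inferInstance⟩,
        fun P hP => eq_maximalIdeal (hP.2.isMaximal_of_ne_bot hP.1)⟩
    have h31 : IsIntegrallyClosed A ∧ (∃! P : Ideal A, P ≠ ⊥ ∧ P.IsPrime) ↔ ValuationRing A :=
      (IsDiscreteValuationRing.TFAE A hf).out 3 1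
    exact h31.1 ⟨inferInstance, hE⟩

end Groth.Agent.RatExt
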